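import Groth.Agent.FlatModel.Open

/-! Flat, locally finitely presented modules over a base embedding into finitely many local rings. -/

universe u

namespace H1FPLib

variable {R : Type u} [CommRing R] {S : Type u} [CommRing S] [Algebra R S]

/-- Agreement after localization at one prime of the base. -/
theorem exists_fg_le {k : ℕ} {M : Type u} [AddCommGroup M] [Module S M] (π : (Fin k → S) →ₗ[S] M)
    (hπ : Function.Surjective π) (T : Submonoid S)
    (hfp : Module.FinitePresentation (Localization T) (LocalizedModule T M)) :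
    ∃ K₁ : Submodule S (Fin k → S), K₁.FG ∧ K₁ ≤ LinearMap.ker π ∧
      ∀ x ∈ LinearMap.ker π, ∃ t ∈ T, t • x ∈ K₁ := by
  classical
  let f := LocalizedModule.mkLinearMap T (Fin k → S)
  let f' := LocalizedModule.mkLinearMap T M
  let g := (IsLocalizedModule.map T f f' π).extendScalarsOfIsLocalization T (Localization T)
  have hg : Function.Surjective g := IsLocalizedModule.map_surjective T f f' π hπ
  haveI : Module.Finite (Localization T) (LocalizedModule T (Fin k → S)) :=
    Module.Finite.of_isLocalizedModule T f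
  have hfg := Module.FinitePresentation.fg_ker g hg
  rw [← LinearMap.localized'_ker_eq_ker_localizedMap (Localization T) T f f' π] at hfg
  obtain ⟨F, hF⟩ := hfg
  have hmem : ∀ y ∈ F, ∃ m ∈ LinearMap.ker π, ∃ t : T, IsLocalizedModule.mk' f m t = y := fun y hy =>
    (Submodule.mem_localized' (Localization T) T f (LinearMap.ker π) y).1
      (hF ▸ Submodule.subset_span hy)
  choose! m hm t ht using hmem
  refine ⟨Submodule.span S (m '' F), Submodule.fg_span (F.finite_toSet.image m), ?_, fun x hx => ?_⟩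
  · rw [Submodule.span_le]
    rintro _ ⟨y, hy, rfl⟩
    exact hm y hy
  · have hle : (LinearMap.ker π).localized' (Localization T) T f ≤
        (Submodule.span S (m '' F)).localized' (Localization T) T f := by
      rw [← hF, Submodule.span_le]
      intro y hy
      exact (Submodule.mem_localized' _ _ _ _ y).2
        ⟨m y, Submodule.subset_span ⟨y, hy, rfl⟩, t y, ht y hy⟩
    obtain ⟨z, hz, s, hzs⟩ := (Submodule.mem_localized' _ _ _ _ _).1
      (hle ((Submodule.mem_localized' _ _ _ _ (f x)).2 ⟨x, hx, 1, IsLocalizedModule.mk'_one T f x⟩))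
    have h1 : f z = f ((s : S) • x) := by
      rw [map_smul, ← hzs]
      exact ((IsLocalizedModule.mk'_cancel' f z s).symm)
    obtain ⟨c, hc⟩ := (IsLocalizedModule.eq_iff_exists T f).1 h1
    refine ⟨(c : S) * s, mul_mem c.2 s.2, ?_⟩
    rw [mul_smul]
    exact (show (c : S) • z = (c : S) • ((s : S) • x) from hc) ▸ Submodule.smul_mem _ _ hz

/-- An element of a flat module killed by an ideal without annihilator is zero. -/
theorem eq_zero_of_smul_eq_zero {P : Type u} [AddCommGroup P] [Module R P] [Module.Flat R P]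
    {ι : Type u} [Fintype ι] [DecidableEq ι] (r : ι → R) (hr : ∀ a : R, (∀ j, r j * a = 0) → a = 0)
    {y : P} (hy : ∀ j, r j • y = 0) : y = 0 := by
  let e : R →ₗ[R] (ι → R) := LinearMap.pi fun j => LinearMap.mulLeft R (r j)
  have he : Function.Injective e := (injective_iff_map_eq_zero _).2 fun a ha =>
    hr a fun j => congrFun ha j
  have h := Module.Flat.lTensor_preserves_injective_linearMap (M := P) e he
  have h0 : e.lTensor P ((TensorProduct.rid R P).symm y) = 0 := by
    apply (TensorProduct.piScalarRight R R P ι).injective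
    funext j
    simp [e, hy j]
  exact (TensorProduct.rid R P).symm.map_eq_zero_iff.1 (h (h0.trans (map_zero _).symm))

theorem finitePresentation_of_flat [Algebra.FinitePresentation R S] (M : Type u) [AddCommGroup M]
    [Module S M] [Module R M] [IsScalarTower R S M] [Module.Finite S M] [Module.Flat R M]
    (s : Finset (PrimeSpectrum R))
    (hs : Function.Injective fun r : R => fun p : s => algebraMap R (Localization.AtPrime p.1.asIdeal) r)
    (hloc : ∀ (p : Ideal R) [p.IsPrime],
      Module.FinitePresentation (Localization (Algebra.algebraMapSubmonoid S p.primeCompl))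
        (LocalizedModule (Algebra.algebraMapSubmonoid S p.primeCompl) M)) :
    Module.FinitePresentation S M := by
  classical
  obtain ⟨k, π, hπ⟩ := Module.Finite.exists_fin' S M
  let K := LinearMap.ker π
  have h1 : ∀ p : PrimeSpectrum R, ∃ K₁ : Submodule S (Fin k → S), K₁.FG ∧ K₁ ≤ K ∧
      ∀ x ∈ K, ∃ r ∉ p.asIdeal, (algebraMap R S r) • x ∈ K₁ := fun p => by
    obtain ⟨K₁, hfg, hle, h⟩ := exists_fg_le π hπ _ (hloc p.asIdeal)
    refine ⟨K₁, hfg, hle, fun x hx => ?_⟩
    obtain ⟨t, ⟨r, hr, rfl⟩, htx⟩ := h x hx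
    exact ⟨r, hr, htx⟩
  choose Kp hKfg hKle hKp using h1
  let K₀ : Submodule S (Fin k → S) := s.sup Kp
  let Qs := {K₁ : Submodule S (Fin k → S) // K₁.FG ∧ K₁ ≤ K ∧ K₀ ≤ K₁}
  let U : Qs → Set (PrimeSpectrum S) := fun K₁ =>
    {q | Module.Flat R (LocalizedModule q.asIdeal.primeCompl ((Fin k → S) ⧸ K₁.1))}
  have hgood : ∀ (K₁ : Qs) (q : PrimeSpectrum S), q ∈ U K₁ →
      ∀ x ∈ K, ∃ t ∉ q.asIdeal, t • x ∈ K₁.1 := by
    intro K₁ q hq x hx
    choose r hr hrx using fun j : s => hKp j.1 x hx
    haveI : Module.Flat R (LocalizedModule q.asIdeal.primeCompl ((Fin k → S) ⧸ K₁.1)) := hq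
    let f := LocalizedModule.mkLinearMap q.asIdeal.primeCompl ((Fin k → S) ⧸ K₁.1)
    have hy : f (Submodule.Quotient.mk x) = 0 := by
      refine eq_zero_of_smul_eq_zero (R := R) r (fun a ha => hs ?_) fun j => ?_
      · funext j
        show algebraMap R _ a = algebraMap R _ 0
        rw [map_zero]
        exact (IsLocalization.map_eq_zero_iff j.1.asIdeal.primeCompl _ a).2 ⟨⟨r j, hr j⟩, ha j⟩
      · have hjx : algebraMap R S (r j) • x ∈ K₁.1 := K₁.2.2.2 ((Finset.le_sup (f := Kp) j.2) (hrx j))
        rw [← algebraMap_smul S (r j), ← map_smul, ← Submodule.Quotient.mk_smul,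
          (Submodule.Quotient.mk_eq_zero _).2 hjx, map_zero]
    obtain ⟨c, hc⟩ := (IsLocalizedModule.eq_zero_iff q.asIdeal.primeCompl f).1 hy
    exact ⟨c, c.2, (Submodule.Quotient.mk_eq_zero _).1 hc⟩
  have hopen : ∀ K₁ : Qs, IsOpen (U K₁) := fun K₁ => by
    haveI : Module.FinitePresentation S ((Fin k → S) ⧸ K₁.1) :=
      Module.finitePresentation_of_surjective _ (Submodule.mkQ_surjective _)
        (by rw [Submodule.ker_mkQ]; exact K₁.2.1)
    exact Groth.Agent.FlatModel.isOpen_flatLocus ((Fin k → S) ⧸ K₁.1)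
  have hcover : Set.univ ⊆ ⋃ K₁, U K₁ := by
    intro q _
    let p : PrimeSpectrum R := PrimeSpectrum.comap (algebraMap R S) q
    have hle : K₀ ⊔ Kp p ≤ K := sup_le (Finset.sup_le fun j _ => hKle j) (hKle p)
    have hfg0 : K₀.FG := Submodule.fg_finset_sup s Kp fun j _ => hKfg j
    let K₁ : Qs := ⟨K₀ ⊔ Kp p, hfg0.sup (hKfg p), hle, le_sup_left⟩
    refine Set.mem_iUnion.2 ⟨K₁, ?_⟩
    let ψ : ((Fin k → S) ⧸ K₁.1) →ₗ[S] M := K₁.1.liftQ π hle
    let f := LocalizedModule.mkLinearMap q.asIdeal.primeCompl ((Fin k → S) ⧸ K₁.1)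
    let f' := LocalizedModule.mkLinearMap q.asIdeal.primeCompl M
    have hψs : Function.Surjective ψ := fun m => by
      obtain ⟨x, rfl⟩ := hπ m
      exact ⟨Submodule.Quotient.mk x, rfl⟩
    have hbij : Function.Bijective (IsLocalizedModule.map q.asIdeal.primeCompl f f' ψ) := by
      refine ⟨(injective_iff_map_eq_zero _).2 fun z hz => ?_, IsLocalizedModule.map_surjective _ f f' ψ hψs⟩
      obtain ⟨⟨z, c⟩, rfl⟩ := IsLocalizedModule.mk'_surjective q.asIdeal.primeCompl f z
      rw [Function.uncurry_apply_pair, IsLocalizedModule.map_mk', IsLocalizedModule.mk'_eq_zero'] at hz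
      obtain ⟨d, hd⟩ := hz
      obtain ⟨x, rfl⟩ := Submodule.Quotient.mk_surjective _ z
      have hdx : (d : S) • x ∈ K := by
        rw [LinearMap.mem_ker, map_smul]; exact hd
      obtain ⟨r, hr, hrx⟩ := hKp p _ hdx
      rw [Function.uncurry_apply_pair, IsLocalizedModule.mk'_eq_zero']
      refine ⟨⟨algebraMap R S r * d, mul_mem (show algebraMap R S r ∈ q.asIdeal.primeCompl from hr) d.2⟩, ?_⟩
      rw [Submonoid.mk_smul, mul_smul, ← Submodule.Quotient.mk_smul, ← Submodule.Quotient.mk_smul, Submodule.Quotient.mk_eq_zero]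
      exact Submodule.mem_sup_right hrx
    haveI : Module.Flat R (LocalizedModule q.asIdeal.primeCompl M) :=
      (Groth.Agent.FlatModel.flat_localized_iff (R := R) q.asIdeal.primeCompl f').2 fun J y hy =>
        ⟨1, one_mem _, by
          rw [one_smul]
          exact Module.Flat.lTensor_preserves_injective_linearMap (M := M) J.subtype
            Subtype.val_injective (hy.trans (map_zero _).symm)⟩
    exact Module.Flat.of_linearEquiv ((LinearEquiv.ofBijective _ hbij).restrictScalars R)
  obtain ⟨t, ht⟩ := isCompact_univ.elim_finite_subcover U hopen hcover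
  let K' : Submodule S (Fin k → S) := t.sup fun K₁ => K₁.1
  have hK' : K = K' := by
    refine le_antisymm (fun x hx => ?_) (Finset.sup_le fun K₁ _ => K₁.2.2.1)
    by_contra hxK
    let J : Ideal S := K'.comap (LinearMap.toSpanSingleton S (Fin k → S) x)
    have hJ : J ≠ ⊤ := fun h => hxK (by
      have h1 : (1 : S) ∈ J := h ▸ Submodule.mem_top
      simpa [J] using h1)
    obtain ⟨m, hm, hJm⟩ := Ideal.exists_le_maximal J hJ
    suffices h : ∃ c ∉ m, c • x ∈ K' by
      obtain ⟨c, hc, hcx⟩ := h
      exact hc (hJm hcx)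
    exact by
      obtain ⟨K₁, hK₁t, hK₁⟩ := Set.mem_iUnion₂.1 (ht (Set.mem_univ (⟨m, hm.isPrime⟩ : PrimeSpectrum S)))
      obtain ⟨c, hc, hcx⟩ := hgood K₁ _ hK₁ x hx
      exact ⟨c, hc, (Finset.le_sup (f := fun K : Qs => K.1) hK₁t) hcx⟩
  refine Module.finitePresentation_of_surjective π hπ ?_
  rw [show LinearMap.ker π = K' from hK']
  exact Submodule.fg_finset_sup t _ fun K₁ _ => K₁.2.1

end H1FPLib
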